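import Cfsg.Agent.H212.Cov.Om10El
import Cfsg.Agent.H926.Minus10
import Cfsg.Agent.AutOrth.Main
import Cfsg.Prelude.Def_Spor_Mathieu

/-!
# S2499: the group `PΩ⁻₁₀(2)` (helper212)

`noTwo_ominus_ten_two` (input: the text of S5851).  The irreducible maximal subgroups of `Ω⁻₁₀(2)` stabilise a
decomposition into planes or normalise a field of degree 2 or have socle `A₁₂`.
-/

set_option autoImplicit false
set_option linter.unusedSectionVars false

namespace Cfsg.Agent.H212.Cov.Om10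

open Module Cfsg Cfsg.Geo
open Cfsg.Agent.LieClassical.OrthCore Cfsg.Agent.LieClassical.OrthForms
open Cfsg.Agent.LieClassical.OmegaReindex (reindexForm isometryGroupReindex)
open Cfsg.Agent.H182.Sign Cfsg.Agent.H403.Classify
open Cfsg.Agent.H278.Cov (Red Ext Num Av Inc NoTwo noTwo_of_three)
open Cfsg.Agent.H383.Cov Cfsg.Agent.H383.Cov.Ten
open scoped MatrixGroups Matrix

/-- the text of S5851 -/
def S5851Stmt : Prop :=
  ∀ {F : Type} [Field F] [Fintype F] (Q : (Fin 10 → F) → F) (_hQ : Cfsg.Geo.IsNondegenerateQuadraticForm Q)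
    (_hminus : ¬ Cfsg.Geo.IsPlusTypeOn Q ⊤) (H : Subgroup (Matrix.GeneralLinearGroup (Fin 10) F))
    (_hH : Cfsg.Geo.IsMaximalIn (Cfsg.Geo.omegaGL Q) H) (_hS : Cfsg.Geo.InOrthogonalResidualClass H),
    ∃ P : Subgroup (Matrix.GeneralLinearGroup (Fin 10) F), Cfsg.Geo.IsResidualCore H P ∧
    ((Nonempty ((P ⧸ (Cfsg.Geo.scalars (Fin 10) F).subgroupOf P) ≃* Matrix.ProjectiveSpecialLinearGroup (Fin 2) (ZMod 11)) ∧ (Fintype.card F).Prime ∧ Fintype.card F ≠ 2 ∧ Fintype.card F ≠ 7 ∧ (Fintype.card F % 11 = 2 ∨ Fintype.card F % 11 = 6 ∨ Fintype.card F % 11 = 7 ∨ Fintype.card F % 11 = 8 ∨ Fintype.card F % 11 = 10)) ∨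
     (Cfsg.Spor.IsoM22 (P ⧸ (Cfsg.Geo.scalars (Fin 10) F).subgroupOf P) ∧ Fintype.card F = 7) ∨
     (Nonempty ((P ⧸ (Cfsg.Geo.scalars (Fin 10) F).subgroupOf P) ≃* alternatingGroup (Fin 11)) ∧ (Fintype.card F).Prime ∧ Fintype.card F ≠ 2 ∧ (Fintype.card F % 11 = 2 ∨ Fintype.card F % 11 = 6 ∨ Fintype.card F % 11 = 7 ∨ Fintype.card F % 11 = 8 ∨ Fintype.card F % 11 = 10)) ∨
     (Nonempty ((P ⧸ (Cfsg.Geo.scalars (Fin 10) F).subgroupOf P) ≃* alternatingGroup (Fin 12)) ∧ Fintype.card F = 2) ∨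
     (Nonempty ((P ⧸ (Cfsg.Geo.scalars (Fin 10) F).subgroupOf P) ≃* Cfsg.PSp 2 F) ∧ Fintype.card F % 4 = 3))

theorem exists_dvd_of_lcm {p : ℕ} (hp : p.Prime) (s : Multiset ℕ) (h : p ∣ s.lcm) : ∃ n ∈ s, p ∣ n := by
  induction s using Multiset.induction_on with
  | empty =>
    rw [Multiset.lcm_zero] at h
    exact absurd (Nat.dvd_one.1 h) hp.one_lt.ne'
  | cons a s ih =>
    rw [Multiset.lcm_cons] at h
    rcases hp.prime.dvd_or_dvd_of_dvd_lcm h with h1 | h1
    · exact ⟨a, Multiset.mem_cons_self a s, h1⟩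
    · obtain ⟨n, hn, hd⟩ := ih h1
      exact ⟨n, Multiset.mem_cons_of_mem hn, hd⟩

/-- there is no permutation of order 33 of 12 points -/
theorem no33 (σ : Equiv.Perm (Fin 12)) : orderOf σ ≠ 33 := by
  intro h
  have hsum : σ.cycleType.sum ≤ 12 := by
    have := Equiv.Perm.sum_cycleType_le σ
    simpa using this
  have hdvd : ∀ p : ℕ, p.Prime → p ∣ 33 → ∃ n ∈ σ.cycleType, p ∣ n := by
    intro p hp hd
    rw [← h, ← Equiv.Perm.lcm_cycleType] at hd
    exact exists_dvd_of_lcm hp _ hd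
  obtain ⟨a, ha, ha11⟩ := hdvd 11 (by norm_num) (by norm_num)
  obtain ⟨b, hb, hb3⟩ := hdvd 3 (by norm_num) (by norm_num)
  have ha0 : 0 < a := lt_of_lt_of_le (by norm_num) (Equiv.Perm.two_le_of_mem_cycleType ha)
  have hb2 := Equiv.Perm.two_le_of_mem_cycleType hb
  have hale : a ≤ 12 := (Multiset.le_sum_of_mem ha).trans hsum
  have ha' : a = 11 := by omega
  subst ha'
  have hab : b ≠ 11 := by
    rintro rfl
    exact absurd hb3 (by decide)
  obtain ⟨s, hs⟩ := Multiset.exists_cons_of_mem ha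
  rw [hs] at hb hsum
  rcases Multiset.mem_cons.1 hb with h1 | h1
  · exact hab h1
  · rw [Multiset.sum_cons] at hsum
    have := Multiset.le_sum_of_mem h1
    omega

section

variable {F : Type} [Field F] [Fintype F]

theorem scalar_trivial (hq : Fintype.card F = 2) {x : GL (Fin 10) F} (hx : x ∈ scalars (Fin 10) F) : x = 1 := by
  obtain ⟨c, rfl⟩ := hx
  have := Classical.decEq F
  have h1 : c ^ (Fintype.card F - 1) = 1 := by
    rw [← Fintype.card_units]
    exact pow_card_eq_one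
  rw [hq, pow_one] at h1
  rw [h1, map_one]

/-- the residual class -/
theorem residual {Q : (Fin 10 → F) → F} (hR : S5851Stmt)
    (hQ : IsNondegenerateQuadraticForm Q) (hminus : ¬ IsPlusTypeOn Q ⊤) (hq : Fintype.card F = 2)
    {H : Subgroup (GL (Fin 10) F)} (hH : IsMaximalIn (omegaGL Q) H) (hS : InOrthogonalResidualClass H)
    {x : GL (Fin 10) F} (hx : x ∈ H) : orderOf x ≠ 17 ∧ orderOf x ≠ 33 := by
  obtain ⟨P, hP, hcase⟩ := hR Q hQ hminus H hH hS
  obtain ⟨e⟩ : Nonempty ((P ⧸ (scalars (Fin 10) F).subgroupOf P) ≃* alternatingGroup (Fin 12)) := by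
    rcases hcase with ⟨-, -, h, -⟩ | ⟨-, h⟩ | ⟨-, -, h, -⟩ | ⟨h, -⟩ | ⟨-, h⟩
    · exact absurd hq h
    · omega
    · exact absurd hq h
    · exact h
    · omega
  obtain ⟨φ, hφ⟩ := H900.SU4.exists_core_inj hP
  have hinj : Function.Injective (φ.comp (QuotientGroup.mk' ((scalars (Fin 10) F).subgroupOf H))) := by
    refine hφ.comp ?_
    rw [injective_iff_map_eq_one]
    intro b hb
    have h1 : b ∈ (scalars (Fin 10) F).subgroupOf H := (QuotientGroup.eq_one_iff b).1 hb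
    exact Subtype.ext (scalar_trivial hq (Subgroup.mem_subgroupOf.1 h1))
  let ψ : H →* MulAut (alternatingGroup (Fin 12)) :=
    (MulAut.congr e).toMonoidHom.comp (φ.comp (QuotientGroup.mk' ((scalars (Fin 10) F).subgroupOf H)))
  have hψ : Function.Injective ψ := (MulAut.congr e).injective.comp hinj
  obtain ⟨σ, hσ⟩ := (S2119.result 12 (by norm_num) (by norm_num)).2 (ψ ⟨x, hx⟩)
  have h1 : orderOf σ = orderOf x := by
    have h2 := orderOf_injective (MulAut.conjNormal : Equiv.Perm (Fin 12) →* MulAut ↥(alternatingGroup (Fin 12)))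
      (S2119.result 12 (by norm_num) (by norm_num)).1 σ
    rw [← h2, hσ, orderOf_injective ψ hψ, Subgroup.orderOf_mk]
  constructor
  · intro h
    have h3 := orderOf_dvd_natCard σ
    rw [h1, h, Nat.card_perm, Nat.card_fin] at h3
    exact absurd h3 (by decide)
  · intro h
    exact no33 σ (h1.trans h)

/-- the maximal subgroups -/
theorem cases_max {Q : (Fin 10 → F) → F} (hQ : IsNondegenerateQuadraticForm Q) (hminus : ¬ IsPlusTypeOn Q ⊤)
    (hq : Fintype.card F = 2) {M : Subgroup (GL (Fin 10) F)} (hM : IsMaximalIn (omegaGL Q) M) :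
    Red M ∨ (∃ D : Fin 5 → Submodule F (Fin 10 → F), IsMDecomposition 2 D ∧ M ≤ decompositionStabilizer D) ∨
      (∃ K : Subalgebra F (Matrix (Fin 10) (Fin 10) F), IsFieldSubalgebra 2 K ∧ M ≤ subalgebraNormalizer K) ∨
      InOrthogonalResidualClass M := by
  have hred : ∀ W : Submodule F (Fin 10 → F), W ≠ ⊥ → W ≠ ⊤ → M = subspaceStabilizer W ⊓ omegaGL Q → Red M :=
    fun W h0 h1 h => ⟨W, h0, h1, h.le.trans inf_le_left⟩
  have hfr : ∀ (W : Submodule F (Fin 10 → F)) (d : ℕ), finrank F W = d → 0 < d → d < 10 →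
      M = subspaceStabilizer W ⊓ omegaGL Q → Red M := by
    intro W d hd h0 h1 h
    refine hred W ?_ ?_ h
    · rintro rfl
      rw [finrank_bot] at hd
      omega
    · rintro rfl
      rw [finrank_top, Module.finrank_fintype_fun_eq_card, Fintype.card_fin] at hd
      omega
  rcases H926.target hQ hminus hM with ⟨W, h0, hW, h⟩ | ⟨ho, -⟩ | ⟨W, hd, -, -, h⟩ | ⟨h4, -⟩ | ⟨W, hd, -, h⟩ |
    ⟨-, v, hv, h⟩ | ⟨⟨p, -, hp, hp4⟩, -⟩ | ⟨-, D, hD, h⟩ | ⟨h3, -⟩ | ⟨h1, -⟩ | ⟨ho, -⟩ | ⟨K, hK, -, -, -, h⟩ |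
    ⟨F₀, r, P, ζ, hr, -, hcard, -⟩ | h
  · left
    refine hred W h0 ?_ h
    rintro rfl
    obtain ⟨⟨u, hu⟩, -⟩ := hQ.nondegenerate (Pi.single 0 1) (by simp)
    apply hu
    rw [QuadraticMap.polar, hW _ trivial, hW _ trivial, hW _ trivial]
    simp
  · rw [hq] at ho
    exact absurd ho (by decide)
  · exact Or.inl (hfr W 2 hd (by norm_num) (by norm_num) h)
  · omega
  · exact Or.inl (hfr W 4 hd (by norm_num) (by norm_num) h)
  · have hv0 : v ≠ 0 := by
      rintro rfl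
      apply hv
      have := hQ.smul 0 0
      simpa using this
    exact Or.inl (hfr _ 1 (finrank_span_singleton hv0) (by norm_num) (by norm_num) h)
  · omega
  · exact Or.inr (Or.inl ⟨D, hD.decomp.decomp, h.le.trans inf_le_left⟩)
  · omega
  · omega
  · rw [hq] at ho
    exact absurd ho (by decide)
  · exact Or.inr (Or.inr (Or.inl ⟨K, hK, h.le.trans inf_le_left⟩))
  · exfalso
    have h0 : 2 ≤ Nat.card F₀ := Finite.one_lt_card
    have h1 : Nat.card F₀ ^ 2 ≤ Nat.card F₀ ^ r := Nat.pow_le_pow_right (by omega) hr.two_le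
    have h2 : 2 ^ 2 ≤ Nat.card F₀ ^ 2 := Nat.pow_le_pow_left h0 2
    omega
  · exact Or.inr (Or.inr (Or.inr h))

/-- elements of order 11 or 17 do not stabilise a decomposition into planes -/
theorem no_decomp {D : Fin 5 → Submodule F (Fin 10 → F)} (hD : IsMDecomposition 2 D) {x : GL (Fin 10) F}
    (hx : x ∈ decompositionStabilizer D) (hco : (orderOf x).Coprime (Nat.factorial 5))
    (dx : Dims x {d | d ≤ 2 ∨ 8 ≤ d}) : False := by
  have h0 := stab_of_coprime hx hco 0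
  have h1 := stab_of_coprime hx hco 1
  have hdim : finrank F ↥(D 0 ⊔ D 1) = 4 := by
    have h2 := Submodule.finrank_sup_add_finrank_inf_eq (D 0) (D 1)
    have h3 : D 0 ⊓ D 1 = ⊥ := (hD.indep.pairwiseDisjoint (by decide : (0 : Fin 5) ≠ 1)).eq_bot
    rw [h3, finrank_bot, hD.finrank_eq, hD.finrank_eq] at h2
    omega
  have h2 := dx (D 0 ⊔ D 1) (by
    intro w hw
    obtain ⟨a, ha, b, hb, rfl⟩ := Submodule.mem_sup.1 hw
    rw [Matrix.mulVec_add]
    exact Submodule.add_mem_sup (h0 a ha) (h1 b hb))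
  rw [Set.mem_ofPred_eq, hdim] at h2
  omega

theorem Dims.mono {ι : Type} [Fintype ι] [DecidableEq ι] {X : GL ι F} {S T : Set ℕ} (h : Dims X S) (hST : S ⊆ T) :
    Dims X T := fun W hW => hST (h W hW)

theorem core (hR : S5851Stmt) {Q : QuadraticForm F (Fin 10 → F)} (hQ : Sg Q 5 (-1))
    (hminus : ¬ IsPlusTypeOn (⇑Q) ⊤) (hq : Fintype.card F = 2) : NoTwo (Omega F ⇑Q) := by
  have hn : Fintype.card (Fin 10) = 10 := Fintype.card_fin 10
  have hq' : Nat.card F = 2 := by rw [Nat.card_eq_fintype_card, hq]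
  have hQ' : IsNondegenerateQuadraticForm ⇑Q := isNondeg hQ.nondeg
  obtain ⟨A, hA, oA, dA, bA⟩ := exA hQ hn hq
  obtain ⟨B, hB, oB, dB, bB⟩ := exB hQ hn hq
  obtain ⟨C, hC, oC, ⟨P, hker⟩, dC⟩ := exC hQ hn hq
  obtain ⟨A', rfl⟩ : ∃ A', emb ⇑Q A' = A := by rw [← range_emb] at hA; exact hA
  obtain ⟨B', rfl⟩ : ∃ B', emb ⇑Q B' = B := by rw [← range_emb] at hB; exact hB
  obtain ⟨C', rfl⟩ : ∃ C', emb ⇑Q C' = C := by rw [← range_emb] at hC; exact hC
  have dAg : ∀ g : GL (Fin 10) F, Dims ((g * emb ⇑Q A' * g⁻¹) ^ 3) {0, 10} := by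
    intro g
    rw [pow_conj]
    exact dA.conj g
  have oA3 : ∀ g : GL (Fin 10) F, orderOf ((g * emb ⇑Q A' * g⁻¹) ^ 3) = 11 := by
    intro g
    rw [orderOf_pow_of_dvd (by norm_num) (by rw [orderOf_conj, oA]; norm_num), orderOf_conj, oA]
  -- conjugates of `A` and irreducibility
  have irrA : ∀ {H : Subgroup (GL (Fin 10) F)} {g : GL (Fin 10) F}, g * emb ⇑Q A' * g⁻¹ ∈ H → ¬ Red H := by
    intro H g h1 hRd
    refine red_dims hRd h1 h1 (Dims.of_pow (dAg g)) (Dims.of_pow (dAg g)) fun d h0 h10 h3 h4 => ?_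
    rw [hn] at h10
    simp only [Set.mem_insert_iff, Set.mem_singleton_iff] at h3
    omega
  have decA : ∀ {D : Fin 5 → Submodule F (Fin 10 → F)} {g : GL (Fin 10) F}, IsMDecomposition 2 D →
      g * emb ⇑Q A' * g⁻¹ ∈ decompositionStabilizer D → False := by
    intro D g hD h1
    refine no_decomp hD ((decompositionStabilizer D).pow_mem h1 3) (by rw [oA3]; decide)
      (Dims.mono (dAg g) ?_)
    intro d hd
    simp only [Set.mem_insert_iff, Set.mem_singleton_iff, Set.mem_ofPred_eq] at hd ⊢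
    omega
  have decB : ∀ {D : Fin 5 → Submodule F (Fin 10 → F)} {g : GL (Fin 10) F}, IsMDecomposition 2 D →
      g * emb ⇑Q B' * g⁻¹ ∈ decompositionStabilizer D → False := by
    intro D g hD h1
    exact no_decomp hD h1 (by rw [orderOf_conj, oB]; decide) (dB.conj g)
  have killC : ∀ {K : Subalgebra F (Matrix (Fin 10) (Fin 10) F)} {g : GL (Fin 10) F}, IsFieldSubalgebra 2 K →
      g * emb ⇑Q C' * g⁻¹ ∈ subalgebraNormalizer K → False := by
    intro K g hK hg
    have h1 := kill hK hg (by rw [orderOf_conj]; exact Nat.coprime_two_right.2 oC) P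
    rw [ker_conj] at h1
    exact (Nat.not_even_iff_odd.2 hker) (even_iff_two_dvd.2 h1)
  refine noTwo_of_three (x := A') (y := B') (z := C') (inc_of fun H hle hne g g' h1 h2 => ?_)
    (inc_of fun H hle hne g g' h1 h2 => ?_) (inc_of fun H hle hne g g' h1 h2 => ?_)
  · obtain ⟨M, hM, hHM⟩ := H905.exists_isMaximalIn_of_lt (lt_of_le_of_ne hle hne)
    rcases cases_max hQ' hminus hq hM with h | ⟨D, hD, h⟩ | ⟨K, hK, h⟩ | h
    · exact irrA (hHM h1) h
    · exact decA hD (h (hHM h1))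
    · have hiso : M ≤ isometryGroup F ⇑Q := hM.1.le.trans (omegaGL_le ⇑Q)
      refine parity hQ' hiso (irrA (hHM h1)) hK h (hHM h2) (M.pow_mem (hHM h1) 3) (a := 4) (b := 5) (by norm_num)
        (by norm_num) (by decide) (by decide) ?_ ?_ ?_ ?_ (bB.conj g') ?_
      · rw [orderOf_conj, oB]; decide
      · rw [oA3]; decide
      · rw [orderOf_conj, oB, hq']; norm_num
      · rw [oA3, hq']; norm_num
      · rw [pow_conj]; exact bA.conj g
    · exact (residual hR hQ' hminus hq hM h (hHM h2)).1 (by rw [orderOf_conj, oB])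
  · obtain ⟨M, hM, hHM⟩ := H905.exists_isMaximalIn_of_lt (lt_of_le_of_ne hle hne)
    rcases cases_max hQ' hminus hq hM with h | ⟨D, hD, h⟩ | ⟨K, hK, h⟩ | h
    · refine red_dims h (hHM h1) (hHM h2) (dB.conj g) (dC.conj g') fun d h0 h10 h3 h4 => ?_
      rw [hn] at h10
      simp only [Set.mem_insert_iff, Set.mem_singleton_iff, Set.mem_ofPred_eq] at h3 h4
      omega
    · exact decB hD (h (hHM h1))
    · exact killC hK (h (hHM h2))
    · exact (residual hR hQ' hminus hq hM h (hHM h1)).1 (by rw [orderOf_conj, oB])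
  · obtain ⟨M, hM, hHM⟩ := H905.exists_isMaximalIn_of_lt (lt_of_le_of_ne hle hne)
    rcases cases_max hQ' hminus hq hM with h | ⟨D, hD, h⟩ | ⟨K, hK, h⟩ | h
    · exact irrA (hHM h1) h
    · exact decA hD (h (hHM h1))
    · exact killC hK (h (hHM h2))
    · exact (residual hR hQ' hminus hq hM h (hHM h1)).2 (by rw [orderOf_conj, oA])

/-- the reindexed form is not of plus type -/
theorem not_plusType {a b : F} (hab : Aniso a b) {ι : Type} [Fintype ι] [DecidableEq ι]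
    (e : (Fin 4 ⊕ Fin 4) ⊕ Fin 2 ≃ ι) : ¬ IsPlusTypeOn (⇑(reindexForm e (minusForm 4 F a b))) ⊤ := by
  rintro ⟨U, -, hU, hd⟩
  let f : (ι → F) ≃ₗ[F] ((Fin 4 ⊕ Fin 4) ⊕ Fin 2 → F) := LinearEquiv.funCongrLeft F F e
  have hW : ∀ w ∈ U.map (f : (ι → F) →ₗ[F] ((Fin 4 ⊕ Fin 4) ⊕ Fin 2 → F)), minusForm 4 F a b w = 0 := by
    rintro _ ⟨v, hv, rfl⟩
    have h1 := hU v hv
    rw [LieClassical.OmegaReindex.reindexForm_apply] at h1
    exact h1
  have h1 := Cfsg.Agent.AutOrth.Main.finrank_le_of_TS_minus 4 a b hab hW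
  rw [LinearEquiv.finrank_map_eq f U] at h1
  rw [finrank_top, Module.finrank_fintype_fun_eq_card, ← Fintype.card_congr e] at hd
  simp at hd
  omega

/-- **`PΩ⁻₁₀(2)`.** -/
theorem noTwo_ominus_ten_two (hR : S5851Stmt) (hq : Fintype.card F = 2) {a b : F}
    (hab : ∀ z₁ z₂ : F, z₁ ^ 2 + a * z₁ * z₂ + b * z₂ ^ 2 = 0 → z₁ = 0 ∧ z₂ = 0) :
    NoTwo (POmega F (quadFormMinus 4 F a b)) := by
  let e : (Fin 4 ⊕ Fin 4) ⊕ Fin 2 ≃ Fin 10 := Fintype.equivFinOfCardEq (by simp)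
  have hs : Sg (reindexForm e (minusForm 4 F a b)) 5 (-1) := by
    refine (sg_minusForm (F := F) 4 hab).congr (LinearEquiv.funCongrLeft F F e.symm) fun v => ?_
    rw [LieClassical.OmegaReindex.reindexForm_apply]
    congr 1
    funext i
    simp [LinearEquiv.funCongrLeft, LinearMap.funLeft]
  have key := core hR hs (not_plusType hab e) hq
  have key2 : NoTwo (Omega F ⇑(minusForm 4 F a b)) :=
    key.congr (omegaCongr (isometryGroupReindex e (⇑(minusForm 4 F a b)) (⇑(reindexForm e (minusForm 4 F a b)))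
      (fun v => rfl))).symm
  rw [coe_minusForm] at key2
  exact key2.of_surjective (QuotientGroup.mk' _) (QuotientGroup.mk'_surjective _)

end

end Cfsg.Agent.H212.Cov.Om10
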