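import Cfsg.Agent.H383.Cov.TenTwo

/-!
# S2499: three elements of `Ω⁻₁₀(2)` (helper212)

* `exA` : irreducible of order 33, `exB` : `neg 4 +` trivial of order 17, `exC` : `pos 3 + neg 2` of order 35.
-/

set_option autoImplicit false
set_option linter.unusedSectionVars false
set_option linter.style.haveILetI false

namespace Cfsg.Agent.H212.Cov.Om10

open Module Cfsg Cfsg.Geo QuadraticMap
open Cfsg.Agent.LieClassical.OrthCore Cfsg.Agent.LieClassical.OrthForms
open Cfsg.Agent.H182.Sign
open Cfsg.Agent.H278.Cov (Red Ext Num Av Inc NoTwo)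
open Cfsg.Agent.H689 (Ppd)
open Cfsg.Agent.H383.Cov Cfsg.Agent.H383.Cov.Ten
open scoped MatrixGroups Matrix

variable {ι : Type} [Fintype ι] [DecidableEq ι] {F : Type} [Field F] [Fintype F]

theorem Dims.of_pow {X : GL ι F} {n : ℕ} {S : Set ℕ} (h : Dims (X ^ n) S) : Dims X S := by
  intro W hW
  apply h
  have key : ∀ k : ℕ, ∀ w ∈ W, ((X ^ k : GL ι F) : Matrix ι ι F) *ᵥ w ∈ W := by
    intro k
    induction k with
    | zero => intro w hw; rw [pow_zero, Units.val_one, Matrix.one_mulVec]; exact hw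
    | succ k ih =>
      intro w hw
      rw [pow_succ, Units.val_mul, ← Matrix.mulVec_mulVec]
      exact ih _ (hW w hw)
  exact key n

/-- an element acting irreducibly, of order 33 -/
theorem exA {Q : QuadraticForm F (ι → F)} (hQ : Sg Q 5 (-1)) (hι : Fintype.card ι = 10) (hq : Fintype.card F = 2) :
    ∃ A : GL ι F, A ∈ omegaGL ⇑Q ∧ orderOf A = 33 ∧ Dims (A ^ 3) {0, 10} ∧ Blk 10 (A ^ 3) := by
  obtain ⟨L, _, _, _, Q', u, s1, s2, s3, s4, s5⟩ := exists_negN (F := F) (k := 5) (N := 33) (by norm_num)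
    (by rw [hq]; norm_num)
  have hfL : FiniteDimensional F L := Module.Finite.of_finite
  have hp : (LinearMap.mulLeft F u : Module.End F L) ^ 33 = 1 := by
    rw [mulLeft_pow, mulLeft_eq_one, ← s3, pow_orderOf_eq_one]
  obtain ⟨A, hA, hsim⟩ := exists_sim hQ (by rw [hι]; norm_num) s1
    (x := LinearMap.mulLeft F u) (M := 33) (fun v => s5 v) (by decide) hp
  have hoA : orderOf A = 33 := by rw [hsim.orderOf_eq, orderOf_mulLeft, s3]
  have hs3 := hsim.pow 3
  rw [mulLeft_pow] at hs3
  have hu3 : orderOf (u ^ 3) = 11 := by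
    rw [orderOf_pow_of_dvd (by norm_num) (by rw [s3]; norm_num), s3]
  have hoA3 : orderOf (A ^ 3) = 11 := by rw [hs3.orderOf_eq, orderOf_mulLeft, hu3]
  refine ⟨A, hA, hoA, ?_, ?_, ?_, ?_⟩
  · apply hs3.dims
    exact irr_case s2 (pow_ne_zero _ s4) (by
      rw [hu3, hq]
      intro j h1 h2
      interval_cases j <;> decide)
  · rw [hoA3, Nat.card_eq_fintype_card, hq]
    decide
  · rw [hoA3, Nat.card_eq_fintype_card, hq]
    intro i h1 h2
    interval_cases i <;> decide
  · rw [hs3.rk]
    have hinj : Function.Injective ⇑((LinearMap.mulLeft F (u ^ 3) : Module.End F L) - 1) := by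
      rw [← LinearMap.ker_eq_bot, LinearMap.ker_eq_bot']
      intro v hv
      exact mulLeft_free (ne_one_of_order hu3 (by norm_num)) v (sub_eq_zero.1 hv)
    rw [LinearMap.finrank_range_of_inj hinj, s2]

theorem exB {Q : QuadraticForm F (ι → F)} (hQ : Sg Q 5 (-1)) (hι : Fintype.card ι = 10) (hq : Fintype.card F = 2) :
    ∃ B : GL ι F, B ∈ omegaGL ⇑Q ∧ orderOf B = 17 ∧ Dims B {d | d ≤ 2 ∨ 8 ≤ d} ∧ Blk 8 B := by
  obtain ⟨L, _, _, _, Q', u, s1, s2, s3, s4, s5⟩ := exists_negN (F := F) (k := 4) (N := 17) (by norm_num)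
    (by rw [hq]; norm_num)
  obtain ⟨K, _, _, _, Q'', u', t1, t2, t3, t4, t5⟩ := exists_posN (F := F) (k := 1) (N := 1) (by norm_num) (one_dvd _)
  have hfL : FiniteDimensional F L := Module.Finite.of_finite
  have hfK : FiniteDimensional F K := Module.Finite.of_finite
  have hs := s1.prod t1
  rw [show (-1 : ℤ) * 1 = -1 by norm_num] at hs
  have p1 : (LinearMap.mulLeft F u : Module.End F L) ^ 17 = 1 := by
    rw [mulLeft_pow, mulLeft_eq_one, ← s3, pow_orderOf_eq_one]
  have p2 : (1 : Module.End F (K × K)) ^ 1 = 1 := one_pow _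
  have hpow : ((LinearMap.mulLeft F u).prodMap 1 : Module.End F (L × (K × K))) ^ 17 = 1 := by
    rw [pair_pow, p1, one_pow]
    rfl
  obtain ⟨B, hB, hsim⟩ := exists_sim hQ (by rw [hι]; norm_num) hs
    (x := (LinearMap.mulLeft F u).prodMap 1) (M := 17)
    (by
      intro v
      rw [prodForm_apply, prodForm_apply]
      change Q' (u * v.1) + Q'' v.2 = _
      rw [s5]) (by decide) hpow
  have hu1 : u ≠ 1 := ne_one_of_order s3 (by norm_num)
  have hoB : orderOf B = 17 := by
    have := Fact.mk (show Nat.Prime 17 by norm_num)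
    rw [hsim.orderOf_eq]
    refine orderOf_eq_prime hpow ?_
    intro h
    have h1 := congrArg (fun f : Module.End F (L × (K × K)) => (f (1, 0)).1) h
    have h2 : u * 1 = 1 := h1
    rw [mul_one] at h2
    exact hu1 h2
  refine ⟨B, hB, hoB, ?_, ?_, ?_, ?_⟩
  · apply hsim.dims
    intro W hW
    obtain ⟨s, hs', t, ht', hst⟩ := pair_dims (S₂ := {d | d ≤ 2}) p1 p2 (Nat.coprime_one_right 17)
      (mulLeft_free hu1)
      (irr_case s2 s4 (by
        rw [s3, hq]
        intro j h1 h2
        interval_cases j <;> decide))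
      (by
        intro W _
        rw [Set.mem_ofPred_eq]
        have := Submodule.finrank_le W
        rw [Module.finrank_prod, t2] at this
        exact this) hW
    rw [hst]
    simp only [Set.mem_insert_iff, Set.mem_singleton_iff, Set.mem_ofPred_eq] at hs' ht' ⊢
    omega
  · rw [hoB, Nat.card_eq_fintype_card, hq]
    decide
  · rw [hoB, Nat.card_eq_fintype_card, hq]
    intro i h1 h2
    interval_cases i <;> decide
  · rw [hsim.rk, range_pair (mulLeft_free hu1), s2]

theorem exC {Q : QuadraticForm F (ι → F)} (hQ : Sg Q 5 (-1)) (hι : Fintype.card ι = 10) (hq : Fintype.card F = 2) :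
    ∃ C : GL ι F, C ∈ omegaGL ⇑Q ∧ Odd (orderOf C) ∧
      (∃ P : Polynomial F, Odd (finrank F (LinearMap.ker (Matrix.toLin'
        (Polynomial.aeval (C : Matrix ι ι F) P))))) ∧ Dims C {0, 3, 4, 6, 7, 10} := by
  obtain ⟨K, _, _, _, Q', u, s1, s2, s3, s4, s5⟩ := exists_posN (F := F) (k := 3) (N := 7) (by norm_num)
    (by rw [hq]; norm_num)
  obtain ⟨L, _, _, _, Q'', u', t1, t2, t3, t4, t5⟩ := exists_negN (F := F) (k := 2) (N := 5) (by norm_num)
    (by rw [hq]; norm_num)
  have hfK : FiniteDimensional F K := Module.Finite.of_finite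
  have hfL : FiniteDimensional F L := Module.Finite.of_finite
  have hs := s1.prod t1
  rw [show (1 : ℤ) * -1 = -1 by norm_num] at hs
  have p1 := dg_pow_eq_one (F := F) s3
  have p2 : (LinearMap.mulLeft F u' : Module.End F L) ^ 5 = 1 := by
    rw [mulLeft_pow, mulLeft_eq_one, ← t3, pow_orderOf_eq_one]
  have hpow : ((dg F u).prodMap (LinearMap.mulLeft F u') : Module.End F ((K × K) × L)) ^ (7 * 5) = 1 := by
    rw [pair_pow, pow_mul, p1, one_pow, mul_comm, pow_mul, p2, one_pow]
    rfl
  obtain ⟨C, hC, hsim⟩ := exists_sim hQ (by rw [hι]; norm_num) hs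
    (x := (dg F u).prodMap (LinearMap.mulLeft F u')) (M := 7 * 5)
    (by
      intro v
      rw [prodForm_apply, prodForm_apply]
      change Q' (dg F u v.1) + Q'' (u' * v.2) = _
      rw [s5 u s4, t5]) (by decide) hpow
  have h7 : Ppd (Fintype.card F) 3 7 := by
    obtain ⟨r, hr⟩ := Cfsg.Agent.H689.exists_ppd (q := Fintype.card F) (k := 3) Fintype.one_lt_card (by norm_num) (by
      rintro ⟨-, h⟩
      exact absurd h (by decide))
    have h1 := (hr.iff 3).2 dvd_rfl
    rw [hq] at h1
    have h2 : r = 7 := (Nat.prime_dvd_prime_iff_eq hr.prime (by norm_num)).1 (by simpa using h1)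
    rwa [← h2]
  refine ⟨C, hC, ?_, ⟨minpoly F u, ?_⟩, ?_⟩
  · refine Odd.of_dvd_nat (show Odd (7 * 5) by decide) ?_
    rw [hsim.orderOf_eq]
    exact orderOf_dvd_of_pow_eq_one hpow
  · rw [hsim.ker, aeval_pair, ker_pair, ker_dg_minpoly (by rw [s2]; decide) s4
      (sq_ne_one s3 (by decide) (by norm_num)), s2, aeval_mulLeft, ker_mulLeft_of_ne]
    · decide
    · intro h
      have hu : u ^ 7 = 1 := by rw [← s3]; exact pow_orderOf_eq_one u
      have h3 := orderOf_dvd_of_pow_eq_one (minpoly_dvd_pow hu h)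
      rw [t3] at h3
      exact absurd h3 (by decide)
  · apply hsim.dims
    intro W hW
    obtain ⟨s, hs', t, ht', hst⟩ := pair_dims (S₁ := {d | 3 ∣ d ∧ d ≤ 6}) p1 p2 (by decide)
      (dg_free (ne_one_of_order s3 (by norm_num)))
      (by
        intro W hW
        refine ⟨dims_dg s3 h7 (by norm_num) hW, ?_⟩
        have h3 := Submodule.finrank_le W
        rw [Module.finrank_prod, s2] at h3
        exact h3)
      (irr_case t2 t4 (by
        rw [t3, hq]
        intro j h1 h2
        interval_cases j <;> decide)) hW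
    rw [hst]
    simp only [Set.mem_insert_iff, Set.mem_singleton_iff, Set.mem_ofPred_eq] at hs' ht' ⊢
    omega

end Cfsg.Agent.H212.Cov.Om10
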